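import Cfsg.Agent.H241.PU.Tools
import Cfsg.Agent.H732.PU.Chain

/-!
# S5258, (E3c) (helper241)
-/

set_option autoImplicit false

namespace Cfsg.Agent.H241.PU

open Cfsg Cfsg.FusionSystem Cfsg.Agent.H756.PU

universe u

section

variable {K : Type u} [Field K] [StarRing K]

/-- `[S, Z₂] ≤ Z` -/
theorem com_Z2 (g z : UG K) (hz : z ∈ Z2 K) : g * z * g⁻¹ * z⁻¹ ∈ ZS K := by
  have h1 : g * z * g⁻¹ * z⁻¹ * (z * g) = g * z := by group
  generalize g * z * g⁻¹ * z⁻¹ = w at h1
  obtain ⟨z1, z2, z3, z5⟩ := hz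
  have e1 : w.r = 0 := by
    have := congrArg UG.r h1
    simp only [UG.mul_r, z1] at this
    linear_combination this
  have e3 : w.u2 = 0 := by
    have := congrArg UG.u2 h1
    simp only [UG.mul_u2, z3] at this
    linear_combination this
  have e2 : w.u1 = 0 := by
    have := congrArg UG.u1 h1
    simp only [UG.mul_u1, z1, z2, z3, e1] at this
    linear_combination this
  have e5 : w.c = 0 := by
    have := congrArg UG.c h1
    simp only [UG.mul_c, z5, z3, e3, star_zero] at this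
    linear_combination this
  have e4 : w.b = 0 := by
    have := congrArg UG.b h1
    simp only [UG.mul_b, UG.mul_c, UG.mul_u2, z1, z2, z3, z5, e1, e2, star_zero] at this
    linear_combination this
  exact ⟨e1, e2, e3, e4, e5⟩

/-- `[S, V] ≤ Z₂` -/
theorem com_VV (g v : UG K) (hv : v ∈ VV K) : g * v * g⁻¹ * v⁻¹ ∈ Z2 K := by
  have h1 : g * v * g⁻¹ * v⁻¹ * (v * g) = g * v := by group
  generalize g * v * g⁻¹ * v⁻¹ = w at h1
  obtain ⟨z1, z2, z3⟩ := hv
  have e1 : w.r = 0 := by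
    have := congrArg UG.r h1
    simp only [UG.mul_r, z1] at this
    linear_combination this
  have e3 : w.u2 = 0 := by
    have := congrArg UG.u2 h1
    simp only [UG.mul_u2, z3] at this
    linear_combination this
  have e2 : w.u1 = 0 := by
    have := congrArg UG.u1 h1
    simp only [UG.mul_u1, z1, z2, z3, e1] at this
    linear_combination this
  have e5 : w.c = 0 := by
    have := congrArg UG.c h1
    simp only [UG.mul_c, z3, e3, star_zero] at this
    linear_combination this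
  exact ⟨e1, e2, e3, e5⟩

/-- `V` centralizes `Q₂` -/
theorem VV_comm_Q2 {v g : UG K} (hv : v ∈ VV K) (hg : g ∈ Q2 K) : v * g = g * v := by
  obtain ⟨z1, z2, z3⟩ := hv
  have g1 : g.r = 0 := hg
  ext
  · simp [z1, g1]
  · simp [z1, z2, z3, g1]
  · simp [z3]
  · simp only [UG.mul_a, UG.d, z1, z2, z3, g1, star_zero]; ring
  · simp only [UG.mul_b, z1, z2, z3, g1, star_zero]; ring
  · simp only [UG.mul_c, z3, star_zero]; ring

theorem ZS_le_Z2 : ZS K ≤ Z2 K := fun _ h => ⟨h.1, h.2.1, h.2.2.1, h.2.2.2.2⟩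

end

/-- **(E3c)** -/
theorem stE3c : StE3c.{u} := by
  intro K _ _ p n hK E Γ hE hZ2 hZ _ hQV hY1
  obtain ⟨e, he, he2⟩ := SetLike.not_le_iff_exists.1 hQV
  have he2' : e.u2 ≠ 0 := he2
  -- `M = ⟨Z₂^Γ⟩`
  have hn : ∀ x ∈ E, ∀ y ∈ ZS K, x * y * x⁻¹ ∈ ZS K := fun x _ y hy => ZS_conj hy x
  have hcom : Com E (hull Γ (Z2 K)) (ZS K) := com_hull hZ hn fun g _ z hz => com_Z2 g z hz
  have hM : hull Γ (Z2 K) ≤ Q2 K := by
    intro m hm
    -- `m` has `u₂ = 0`
    obtain ⟨y, hy, hy1⟩ := exists_Y1 hK 1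
    have h1 := (ext_mod (hcom y (hY1 hy) m hm)).2.1
    obtain ⟨⟨y2, yc⟩, yr⟩ := hy
    have yr' : y.r = 0 := yr
    have h2 : m.u2 = 0 := by
      rw [UG.mul_b, UG.mul_b, yr', yc, y2, hy1, star_zero] at h1
      have h3 : star m.u2 = 0 := by linear_combination -h1
      exact star_eq_zero.1 h3
    have h3 := (ext_mod (hcom e he m hm)).1
    rw [UG.mul_u1, UG.mul_u1, h2] at h3
    have h4 : m.r * e.u2 = 0 := by linear_combination -h3
    exact (mul_eq_zero.1 h4).resolve_right he2'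
  refine H732.PU.stChain hE (ZS K) (ZS K) (hull Γ (Z2 K)) hZ hZ inv_hull le_rfl
    (ZS_le_Z2.trans (le_hull hZ2)) (VV K) le_top ?_ ?_ ?_ ?_
  · -- `[V, E] ≤ Z₂ ≤ M`
    intro v hv x _
    apply le_hull hZ2
    have h1 := com_VV x v hv
    have h2 := (Z2 K).inv_mem h1
    have h3 : (x * v * x⁻¹ * v⁻¹)⁻¹ = v * x * v⁻¹ * x⁻¹ := by group
    rwa [h3] at h2
  · intro v hv m hm
    rw [VV_comm_Q2 hv (hM hm), mul_inv_cancel_right, mul_inv_cancel]
    exact (ZS K).one_mem
  · intro v _ z hz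
    rw [← ZS_comm hz, mul_inv_cancel_right, mul_inv_cancel]
    exact (ZS K).one_mem
  · intro v _ z hz
    exact (ZS_comm hz v).symm

end Cfsg.Agent.H241.PU
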