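import Cfsg.Agent.H756.PU.Stmts

/-!
# S5258: tools on `hull` and on the centre of `UG K` (helper241)

* `hull_le`, `le_hull`, `inv_hull`, `com_hull` (`[E, X] ≤ N` implies `[E, hull X] ≤ N`), `pow_hull`;
* `ext_mod` : the coordinates of `x y` and `y x` if `[x, y] ∈ Z`;
* `exists_trace_ne`, `exists_trace_eq` : the trace is not zero, `a + star a = - t star t` is solvable.
-/

set_option autoImplicit false

namespace Cfsg.Agent.H241.PU

open Cfsg Cfsg.FusionSystem Cfsg.Agent.H756.PU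

universe u

section Hull

variable {Ω : Type*} [Group Ω] {E : Subgroup Ω} {Γ : Subgroup (MulAut E)} {X N : Subgroup Ω}

theorem hull_le : hull Γ X ≤ E := by
  rw [hull, Subgroup.closure_le]
  rintro y ⟨γ, -, e, -, rfl⟩
  exact (γ e).2

theorem mem_hull {γ : MulAut E} (hγ : γ ∈ Γ) {e : E} (he : (e : Ω) ∈ X) : ((γ e : E) : Ω) ∈ hull Γ X :=
  Subgroup.subset_closure ⟨γ, hγ, e, he, rfl⟩

theorem le_hull (hX : X ≤ E) : X ≤ hull Γ X := fun x hx =>
  mem_hull (X := X) Γ.one_mem (e := ⟨x, hX hx⟩) hx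

theorem inv_hull : Inv Γ (hull Γ X) := by
  refine ⟨hull_le, fun γ hγ e he => ?_⟩
  have key : ∀ y ∈ hull Γ X, ∃ hy : y ∈ E, ((γ ⟨y, hy⟩ : E) : Ω) ∈ hull Γ X := by
    intro y hy
    induction hy using Subgroup.closure_induction with
    | mem y hy =>
      obtain ⟨δ, hδ, e, he, rfl⟩ := hy
      refine ⟨(δ e).2, ?_⟩
      exact mem_hull (X := X) (Γ.mul_mem hγ hδ) he
    | one =>
      refine ⟨E.one_mem, ?_⟩
      have h1 : (⟨1, E.one_mem⟩ : E) = 1 := rfl
      rw [h1, map_one]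
      exact (hull Γ X).one_mem
    | mul x y _ _ hx hy =>
      obtain ⟨hx1, hx2⟩ := hx
      obtain ⟨hy1, hy2⟩ := hy
      refine ⟨E.mul_mem hx1 hy1, ?_⟩
      have h1 : (⟨x * y, E.mul_mem hx1 hy1⟩ : E) = ⟨x, hx1⟩ * ⟨y, hy1⟩ := rfl
      rw [h1, map_mul]
      exact (hull Γ X).mul_mem hx2 hy2
    | inv x _ hx =>
      obtain ⟨hx1, hx2⟩ := hx
      refine ⟨E.inv_mem hx1, ?_⟩
      have h1 : (⟨x⁻¹, E.inv_mem hx1⟩ : E) = (⟨x, hx1⟩)⁻¹ := rfl
      rw [h1, map_inv]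
      exact (hull Γ X).inv_mem hx2
  exact (key e he).2

/-- `[E, X] ≤ N` implies `[E, hull X] ≤ N` -/
theorem com_hull (hN : Inv Γ N) (hn : ∀ e ∈ E, ∀ x ∈ N, e * x * e⁻¹ ∈ N) (hX : Com E X N) :
    Com E (hull Γ X) N := by
  have key : ∀ m ∈ hull Γ X, m ∈ E ∧ ∀ e ∈ E, e * m * e⁻¹ * m⁻¹ ∈ N := by
    intro m hm
    induction hm using Subgroup.closure_induction with
    | mem y hy =>
      obtain ⟨γ, hγ, x, hx, rfl⟩ := hy
      refine ⟨(γ x).2, fun e he => ?_⟩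
      have h1 := hX ((γ⁻¹ ⟨e, he⟩ : E) : Ω) (γ⁻¹ ⟨e, he⟩).2 x hx
      have h2 := hN.2 γ hγ (γ⁻¹ ⟨e, he⟩ * x * (γ⁻¹ ⟨e, he⟩)⁻¹ * x⁻¹) h1
      rw [map_mul, map_mul, map_mul, map_inv, map_inv, MulAut.apply_inv_self] at h2
      exact h2
    | one =>
      refine ⟨E.one_mem, fun e _ => ?_⟩
      have h1 : e * 1 * e⁻¹ * 1⁻¹ = 1 := by group
      rw [h1]
      exact N.one_mem
    | mul x y _ _ hx hy =>
      refine ⟨E.mul_mem hx.1 hy.1, fun e he => ?_⟩
      have h1 : e * (x * y) * e⁻¹ * (x * y)⁻¹ = (e * x * e⁻¹ * x⁻¹) * (x * (e * y * e⁻¹ * y⁻¹) * x⁻¹) := by group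
      rw [h1]
      exact N.mul_mem (hx.2 e he) (hn x hx.1 _ (hy.2 e he))
    | inv x _ hx =>
      refine ⟨E.inv_mem hx.1, fun e he => ?_⟩
      have h1 : e * x⁻¹ * e⁻¹ * x⁻¹⁻¹ = x⁻¹ * (e * x * e⁻¹ * x⁻¹)⁻¹ * x⁻¹⁻¹ := by group
      rw [h1]
      exact hn x⁻¹ (E.inv_mem hx.1) _ (N.inv_mem (hx.2 e he))
  exact fun e he m hm => (key m hm).2 e he

/-- `p`-th powers of the elements of the hull -/
theorem pow_hull (hN : Inv Γ N) (hn : ∀ e ∈ E, ∀ x ∈ N, e * x * e⁻¹ ∈ N) (hX : Com E X N) {p : ℕ}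
    (hp : ∀ x ∈ X, x ^ p ∈ N) : ∀ m ∈ hull Γ X, m ^ p ∈ N := by
  have hc := com_hull hN hn hX
  have hnn : (N.subgroupOf E).Normal := ⟨fun x hx e => hn e e.2 x hx⟩
  have key : ∀ m ∈ hull Γ X, m ^ p ∈ N := by
    intro m hm
    induction hm using Subgroup.closure_induction with
    | mem y hy =>
      obtain ⟨γ, hγ, x, hx, rfl⟩ := hy
      have h1 := hN.2 γ hγ (x ^ p) (by rw [SubmonoidClass.coe_pow]; exact hp _ hx)
      rw [map_pow, SubmonoidClass.coe_pow] at h1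
      exact h1
    | one => rw [one_pow]; exact N.one_mem
    | mul x y hx hy hx' hy' =>
      have hxE : x ∈ E := hull_le hx
      have hyE : y ∈ E := hull_le hy
      have h1 := hc y hyE x hx
      let X' : E := ⟨x, hxE⟩
      let Y' : E := ⟨y, hyE⟩
      have h2 : (QuotientGroup.mk' (N.subgroupOf E) (Y' * X' * Y'⁻¹ * X'⁻¹)) = 1 :=
        (QuotientGroup.eq_one_iff _).2 (Subgroup.mem_subgroupOf.2 h1)
      rw [map_mul, map_mul, map_mul, map_inv, map_inv, mul_inv_eq_one, mul_inv_eq_iff_eq_mul] at h2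
      have h3 : (QuotientGroup.mk' (N.subgroupOf E) ((X' * Y') ^ p)) = 1 := by
        rw [map_pow, map_mul, (show Commute _ _ from h2.symm).mul_pow, ← map_pow, ← map_pow]
        have h4 : (QuotientGroup.mk' (N.subgroupOf E) (X' ^ p)) = 1 :=
          (QuotientGroup.eq_one_iff _).2 (Subgroup.mem_subgroupOf.2 hx')
        have h5 : (QuotientGroup.mk' (N.subgroupOf E) (Y' ^ p)) = 1 :=
          (QuotientGroup.eq_one_iff _).2 (Subgroup.mem_subgroupOf.2 hy')
        rw [h4, h5, one_mul]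
      exact Subgroup.mem_subgroupOf.1 ((QuotientGroup.eq_one_iff _).1 h3)
    | inv x _ hx' => rw [inv_pow]; exact N.inv_mem hx'
  exact key

end Hull

section Centre

variable {K : Type u} [Field K] [StarRing K]

theorem mem_ZS {g : UG K} : g ∈ ZS K ↔ g.r = 0 ∧ g.u1 = 0 ∧ g.u2 = 0 ∧ g.b = 0 ∧ g.c = 0 := Iff.rfl

/-- `Z` is central -/
theorem ZS_comm {z : UG K} (hz : z ∈ ZS K) (g : UG K) : z * g = g * z := by
  obtain ⟨h1, h2, h3, h4, h5⟩ := hz
  ext
  · simp [h1]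
  · simp [h1, h2, h3]
  · simp [h3]
  · simp only [UG.mul_a, UG.d, h1, h2, h3, h4, h5, star_zero]; ring
  · simp only [UG.mul_b, h1, h2, h3, h4, h5, star_zero]; ring
  · simp only [UG.mul_c, h3, h5, star_zero]; ring

theorem ZS_conj {z : UG K} (hz : z ∈ ZS K) (g : UG K) : g * z * g⁻¹ ∈ ZS K := by
  rw [← ZS_comm hz, mul_inv_cancel_right]
  exact hz

/-- if `[x, y] ∈ Z` then `x y` and `y x` have the same coordinates but `a` -/
theorem ext_mod {x y : UG K} (h : x * y * x⁻¹ * y⁻¹ ∈ ZS K) :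
    (x * y).u1 = (y * x).u1 ∧ (x * y).b = (y * x).b ∧ (x * y).c = (y * x).c := by
  have h1 : x * y = (x * y * x⁻¹ * y⁻¹) * (y * x) := by group
  generalize x * y * x⁻¹ * y⁻¹ = z at h h1
  obtain ⟨z1, z2, z3, z4, z5⟩ := h
  rw [h1]
  refine ⟨?_, ?_, ?_⟩
  · rw [UG.mul_u1, z1, z2]; ring
  · rw [UG.mul_b, z1, z2, z4]; ring
  · rw [UG.mul_c, z3, z5]; ring

variable {p n : ℕ}

/-- the trace is not zero -/
theorem exists_trace_ne (h : HypK K p n) : ∃ x : K, x + star x ≠ 0 := by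
  by_contra hcon
  push Not at hcon
  have := h.fin
  have h1 : (1 : K) + 1 = 0 := by
    have := hcon 1
    rwa [star_one] at this
  have h2 : ∀ x : K, x ^ (p ^ n) = x := by
    intro x
    rw [← h.star_eq]
    have h3 := hcon x
    linear_combination h3 - x * h1
  -- the unit group has exponent dividing `q - 1`
  have hq : 2 ≤ p ^ n := by
    have := h.pp.two_le
    calc 2 ≤ p := this
      _ ≤ p ^ n := Nat.le_self_pow (by have := h.hn; omega) p
  have h3 : Monoid.exponent Kˣ ∣ p ^ n - 1 := by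
    refine Monoid.exponent_dvd_of_forall_pow_eq_one fun u => ?_
    have h4 := h2 (u : K)
    apply Units.ext
    rw [Units.val_pow_eq_pow_val, Units.val_one]
    have h5 : (u : K) * (u : K) ^ (p ^ n - 1) = (u : K) * 1 := by
      rw [← pow_succ', Nat.sub_add_cancel (by omega), mul_one, h4]
    exact mul_left_cancel₀ u.ne_zero h5
  rw [IsCyclic.exponent_eq_card] at h3
  have h4 : Nat.card Kˣ = (p ^ n) ^ 2 - 1 := by
    rw [Nat.card_units, h.card]
  rw [h4] at h3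
  have h5 := Nat.le_of_dvd (by omega) h3
  have h6 : p ^ n < (p ^ n) ^ 2 := by nlinarith
  omega

/-- `a + star a = - t star t` is solvable -/
theorem exists_trace_eq (h : HypK K p n) (t : K) : ∃ a : K, a + star a + t * star t = 0 := by
  obtain ⟨x, hx⟩ := exists_trace_ne h
  refine ⟨- (t * star t) * x * (x + star x)⁻¹, ?_⟩
  have h1 : star (- (t * star t) * x * (x + star x)⁻¹) = - (t * star t) * star x * (x + star x)⁻¹ := by
    rw [star_mul', star_mul', star_neg, star_mul', star_star, star_inv₀, star_add, star_star]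
    rw [add_comm (star x) x, mul_comm (star t) t]
  rw [h1]
  field_simp
  ring

/-- an element of `Y₁` with a given coordinate `u₁` -/
theorem exists_Y1 (h : HypK K p n) (t : K) : ∃ y : UG K, y ∈ Y1 K ∧ y.u1 = t := by
  obtain ⟨a, ha⟩ := exists_trace_eq h t
  exact ⟨{ r := 0, u1 := t, u2 := 0, a := a, b := 0, c := 0, ha := ha, hc := by simp },
    ⟨⟨rfl, rfl⟩, rfl⟩, rfl⟩

end Centre

end Cfsg.Agent.H241.PU
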